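import Groth.Agent.LieSBracket.Ops

/-!
# The bracket of tangent vectors of a group scheme
-/

set_option autoImplicit false
universe u

open CategoryTheory MonoidalCategory CartesianMonoidalCategory AlgebraicGeometry
open scoped MonObj
open Groth.Agent.S8365 (twoPt twoPt_ext inMap outMap selfMap out_in selfMap_id selfMap_zero)
open Groth.Agent.LieSLib (selfMap_zero_comp mulMap_cancel)

namespace Groth.Agent.LieSBracket

noncomputable section

set_option backward.isDefEq.respectTransparency false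

variable {S : Scheme.{u}} {G : Over S} [GrpObj G] {B : Type u} [CommRing B]
    {f : Spec (CommRingCat.of B) ⟶ S}

/-- The second coordinate. -/
def renameMap (f : Spec (CommRingCat.of B) ⟶ S) : LieS.d2pt B f ⟶ LieS.dpt B f :=
  LieS.dptMap f (algebraMap B (DualNumber B))

/-- The first coordinate. -/
def proj' (f : Spec (CommRingCat.of B) ⟶ S) : LieS.d2pt B f ⟶ LieS.dpt B f :=
  LieS.proj (DualNumber B) (LieS.dpt B f).hom

theorem isBracket_iff (x y z : LieS.Lie G B f) : LieS.IsBracket G B f x y z ↔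
    LieS.mulMap B f ≫ z.1 =
      (renameMap f ≫ x.1) * (proj' f ≫ y.1) * (renameMap f ≫ x.1)⁻¹ * (proj' f ≫ y.1)⁻¹ :=
  Iff.rfl

theorem out_snd_renameMap :
    outMap f (LinearMap.snd B B B) ≫ sqMap f ≫ renameMap f = 𝟙 (LieS.dpt B f) :=
  out_snd_sq_dptMap f

theorem out_snd_proj' :
    outMap f (LinearMap.snd B B B) ≫ sqMap f ≫ proj' f = LieS.proj B f ≫ LieS.zeroSec B f :=
  out_snd_sq_proj f

theorem zeroSec_renameMap : LieS.zeroSec (DualNumber B) (LieS.dpt B f).hom ≫ (renameMap f) =
    LieS.proj B f ≫ LieS.zeroSec B f :=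
  LieS.zeroSec_dptMap f (algebraMap B (DualNumber B))

theorem zeroSec_proj' : LieS.zeroSec (DualNumber B) (LieS.dpt B f).hom ≫ (proj' f) = 𝟙 (LieS.dpt B f) :=
  LieS.zeroSec_proj (DualNumber B) (LieS.dpt B f).hom

theorem zero_comp_val (v : LieS.Lie G B f) : (LieS.proj B f ≫ LieS.zeroSec B f) ≫ v.1 = 1 := by
  rw [Category.assoc, (LieS.mem_Lie_iff G B f v.1).1 v.2, MonObj.comp_one]

theorem axis₁_x (x : LieS.Lie G B f) :
    outMap f (LinearMap.fst B B B) ≫ sqMap f ≫ (renameMap f) ≫ x.1 = 1 := by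
  rw [← Category.assoc, out_fst_sq, ← Category.assoc, zeroSec_renameMap, zero_comp_val]

theorem axis₁_y (y : LieS.Lie G B f) :
    outMap f (LinearMap.fst B B B) ≫ sqMap f ≫ (proj' f) ≫ y.1 = y.1 := by
  rw [← Category.assoc, out_fst_sq, ← Category.assoc, zeroSec_proj', Category.id_comp]

theorem axis₂_x (x : LieS.Lie G B f) :
    outMap f (LinearMap.snd B B B) ≫ sqMap f ≫ (renameMap f) ≫ x.1 = x.1 := by
  simpa only [Category.assoc, Category.id_comp] using congrArg (fun t => t ≫ x.1) (out_snd_renameMap (f := f))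

theorem axis₂_y (y : LieS.Lie G B f) :
    outMap f (LinearMap.snd B B B) ≫ sqMap f ≫ (proj' f) ≫ y.1 = 1 := by
  have := congrArg (fun t => t ≫ y.1) (out_snd_proj' (f := f))
  simp only [Category.assoc] at this
  rw [this, ← Category.assoc, zero_comp_val]

theorem exists_bracket (x y : LieS.Lie G B f) : ∃ z, LieS.IsBracket G B f x y z := by
  simp only [isBracket_iff]
  refine exists_mulMap_comp f _ (twoPt_ext f _ _ ?_ ?_)
  · simp only [MonObj.comp_mul, GrpObj.comp_inv, MonObj.comp_one, axis₁_x, axis₁_y]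
    simp
  · simp only [MonObj.comp_mul, GrpObj.comp_inv, MonObj.comp_one, axis₂_x, axis₂_y]
    simp

/-- The bracket. -/
def bra (x y : LieS.Lie G B f) : LieS.Lie G B f := (exists_bracket x y).choose

theorem isBracket_bra (x y : LieS.Lie G B f) : LieS.mulMap B f ≫ (bra x y).1 =
    (renameMap f ≫ x.1) * (proj' f ≫ y.1) * (renameMap f ≫ x.1)⁻¹ * (proj' f ≫ y.1)⁻¹ :=
  (isBracket_iff _ _ _).1 (exists_bracket x y).choose_spec

theorem eq_bra {x y z : LieS.Lie G B f} (h : LieS.mulMap B f ≫ z.1 =
    (renameMap f ≫ x.1) * (proj' f ≫ y.1) * (renameMap f ≫ x.1)⁻¹ * (proj' f ≫ y.1)⁻¹) : z = bra x y :=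
  mulMap_cancel _ _ (Eq.trans h (isBracket_bra x y).symm)

theorem swap_renameMap : swapMap f ≫ (renameMap f) = (proj' f) := by
  refine Over.OverMorphism.ext ?_
  change Spec.map _ ≫ Spec.map _ = Spec.map _
  rw [LieS.specMap_comp]
  congr 2
  refine RingHom.ext fun x => D2_ext B ?_ ?_ ?_ ?_ <;>
    simp [LieS.bcHom, TrivSqZeroExt.algebraMap_eq_inl']

theorem swap_proj' : swapMap f ≫ (proj' f) = (renameMap f) := by
  refine Over.OverMorphism.ext ?_
  change Spec.map _ ≫ Spec.map _ = Spec.map _
  rw [LieS.specMap_comp]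
  congr 2
  refine RingHom.ext fun x => D2_ext B ?_ ?_ ?_ ?_ <;>
    simp [LieS.bcHom, TrivSqZeroExt.algebraMap_eq_inl']

theorem swap_mulMap : swapMap f ≫ LieS.mulMap B f = LieS.mulMap B f := by
  refine Over.OverMorphism.ext ?_
  change Spec.map _ ≫ Spec.map _ = Spec.map _
  rw [LieS.specMap_comp]
  congr 2
  refine RingHom.ext fun x => D2_ext B ?_ ?_ ?_ ?_ <;>
    simp [LieS.mulHom, LieS.toD2, TrivSqZeroExt.algebraMap_eq_inl']

theorem bra_swap (x y : LieS.Lie G B f) : bra y x = (bra x y)⁻¹ := by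
  refine (eq_bra ?_).symm
  show LieS.mulMap B f ≫ (bra x y).1⁻¹ = _
  rw [GrpObj.comp_inv]
  have h := congrArg (fun t => swapMap f ≫ t) (isBracket_bra x y)
  simp only [MonObj.comp_mul, GrpObj.comp_inv] at h
  rw [← Category.assoc, ← Category.assoc, ← Category.assoc, swap_mulMap, swap_renameMap, swap_proj'] at h
  rw [h]
  group

theorem bra_self (x : LieS.Lie G B f) : bra x x = 1 := by
  refine (eq_bra ?_).symm
  show LieS.mulMap B f ≫ (1 : LieS.dpt B f ⟶ G) = _
  have hc : swapMap f ≫ (((renameMap f) ≫ x.1) * ((proj' f) ≫ x.1)) =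
      ((renameMap f) ≫ x.1) * ((proj' f) ≫ x.1) := by
    refine swap_comp_eq f _ x.1 (twoPt_ext f _ _ ?_ ?_)
    · simp only [MonObj.comp_mul, axis₁_x, axis₁_y]
      rw [← Category.assoc, out_in, show LinearMap.fst B B B ∘ₗ (LinearMap.inl B B B + LinearMap.inr B B B) = LinearMap.id by ext; simp,
        selfMap_id, Category.id_comp, _root_.one_mul]
    · simp only [MonObj.comp_mul, axis₂_x, axis₂_y]
      rw [← Category.assoc, out_in, show LinearMap.snd B B B ∘ₗ (LinearMap.inl B B B + LinearMap.inr B B B) = LinearMap.id by ext; simp,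
        selfMap_id, Category.id_comp, _root_.mul_one]
  rw [MonObj.comp_mul, ← Category.assoc, ← Category.assoc, swap_renameMap, swap_proj'] at hc
  rw [MonObj.comp_one, ← hc]
  group

theorem scale_eps_dptMap :
    LieS.scale (DualNumber B) (LieS.dpt B f).hom DualNumber.eps ≫ (renameMap f) = LieS.mulMap B f := by
  refine Over.OverMorphism.ext ?_
  change Spec.map _ ≫ Spec.map _ = Spec.map _
  rw [LieS.specMap_comp]
  congr 2
  refine RingHom.ext fun x => D2_ext B ?_ ?_ ?_ ?_ <;>
    simp [LieS.bcHom, LieS.scaleHom, LieS.mulHom, LieS.toD2, TrivSqZeroExt.algebraMap_eq_inl']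

/-- The base change to the dual numbers. -/
abbrev dualBase (f : Spec (CommRingCat.of B) ⟶ S) : Spec (CommRingCat.of (DualNumber B)) ⟶ S :=
  Spec.map (CommRingCat.ofHom (algebraMap B (DualNumber B))) ≫ f

/-- A tangent vector as a point over the dual numbers. -/
abbrev asPt (y : LieS.Lie G B f) : LieS.pt (DualNumber B) (dualBase f) ⟶ G := y.1

/-- Pullback to the dual numbers, additively. -/
def P : LL G B f →+ LL G (DualNumber B) (dualBase f) :=
  MonoidHom.toAdditive (LieS.pull G f (algebraMap B (DualNumber B)))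

theorem P_smul (b : B) (v : LL G B f) : P (b • v) = algebraMap B (DualNumber B) b • P v :=
  congrArg Additive.ofMul (pull_smul (algebraMap B (DualNumber B)) b (Additive.toMul v))

theorem eps_P_injective : Function.Injective
    (fun v : LL G B f => (DualNumber.eps : DualNumber B) • P v) := by
  intro v w h
  have h' := congrArg (fun t => (Additive.toMul t : LieS.Lie G (DualNumber B) (dualBase f)).1) h
  change LieS.scale (DualNumber B) _ DualNumber.eps ≫ (renameMap f) ≫ (Additive.toMul v).1 =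
    LieS.scale (DualNumber B) _ DualNumber.eps ≫ (renameMap f) ≫ (Additive.toMul w).1 at h'
  rw [← Category.assoc, ← Category.assoc, scale_eps_dptMap] at h'
  exact congrArg Additive.ofMul (mulMap_cancel _ _ h')

/-- The adjoint action, additively. -/
def adL (g : LieS.pt B f ⟶ G) : LL G B f →ₗ[B] LL G B f where
  toFun v := Additive.ofMul (LieS.Ad G B f g (Additive.toMul v))
  map_add' v w := congrArg Additive.ofMul (map_mul (LieS.Ad G B f g) _ _)
  map_smul' b v := congrArg Additive.ofMul (Ad_smul g b (Additive.toMul v))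

/-- The bracket, additively. -/
def br (x y : LL G B f) : LL G B f := Additive.ofMul (bra (Additive.toMul x) (Additive.toMul y))

/-- The bracket is read off from the adjoint action of a tangent vector. -/
theorem adL_P (x y : LL G B f) :
    adL (asPt (Additive.toMul y)) (P x) = P x - (DualNumber.eps : DualNumber B) • P (br x y) := by
  rw [sub_eq_neg_add]
  refine congrArg Additive.ofMul (Subtype.ext ?_ :
    LieS.Ad G (DualNumber B) (dualBase f) (asPt (Additive.toMul y))
        (LieS.pull G f (algebraMap B (DualNumber B)) (Additive.toMul x)) =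
      ((DualNumber.eps : DualNumber B) • LieS.pull G f (algebraMap B (DualNumber B))
          (bra (Additive.toMul x) (Additive.toMul y)) : LieS.Lie G (DualNumber B) (dualBase f))⁻¹ *
        LieS.pull G f (algebraMap B (DualNumber B)) (Additive.toMul x))
  show ((proj' f) ≫ (Additive.toMul y).1) * ((renameMap f) ≫ (Additive.toMul x).1) *
      ((proj' f) ≫ (Additive.toMul y).1)⁻¹ =
    (LieS.scale (DualNumber B) _ DualNumber.eps ≫ (renameMap f) ≫
        (bra (Additive.toMul x) (Additive.toMul y)).1)⁻¹ * ((renameMap f) ≫ (Additive.toMul x).1)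
  rw [← Category.assoc (LieS.scale (DualNumber B) _ DualNumber.eps), scale_eps_dptMap,
    isBracket_bra (Additive.toMul x) (Additive.toMul y)]
  group

theorem br_self (x : LL G B f) : br x x = 0 := congrArg Additive.ofMul (bra_self (Additive.toMul x))

theorem br_swap (x y : LL G B f) : br y x = -br x y :=
  congrArg Additive.ofMul (bra_swap (Additive.toMul x) (Additive.toMul y))

theorem br_add_left (x x' y : LL G B f) : br (x + x') y = br x y + br x' y := by
  refine eps_P_injective ?_
  have h := adL_P (x + x') y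
  simp only [map_add, adL_P, smul_add] at h ⊢
  rw [← sub_eq_zero] at h ⊢
  rw [← h]
  abel

theorem br_smul_left (b : B) (x y : LL G B f) : br (b • x) y = b • br x y := by
  refine eps_P_injective ?_
  have h := adL_P (b • x) y
  simp only [P_smul, map_smul, adL_P, smul_sub, smul_comm (algebraMap B (DualNumber B) b)
    (DualNumber.eps : DualNumber B)] at h ⊢
  exact (sub_right_inj.1 h).symm

theorem br_add_right (x y y' : LL G B f) : br x (y + y') = br x y + br x y' := by
  rw [br_swap, br_swap y x, br_swap y' x, br_add_left, neg_add]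

theorem br_smul_right (b : B) (x y : LL G B f) : br x (b • y) = b • br x y := by
  rw [br_swap, br_swap y x, br_smul_left, smul_neg]

theorem br_neg_left (x y : LL G B f) : br (-x) y = -br x y :=
  map_neg (AddMonoidHom.mk' (fun t => br t y) fun a b => br_add_left a b y) x

theorem br_sub_left (x x' y : LL G B f) : br (x - x') y = br x y - br x' y :=
  map_sub (AddMonoidHom.mk' (fun t => br t y) fun a b => br_add_left a b y) x x'

theorem br_sub_right (x y y' : LL G B f) : br x (y - y') = br x y - br x y' :=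
  map_sub (AddMonoidHom.mk' (fun t => br x t) fun a b => br_add_right x a b) y y'

section BaseChange

variable {C : Type u} [CommRing C] (h : B →+* C)

/-- The base change of iterated dual numbers. -/
abbrev d2Hom : LieS.D2 B →+* LieS.D2 C := LieS.bcHom (LieS.bcHom h)

theorem d2Map_w : Spec.map (CommRingCat.ofHom (d2Hom h)) ≫ (LieS.d2pt B f).hom =
    (LieS.d2pt C (Spec.map (CommRingCat.ofHom h) ≫ f)).hom := by
  show Spec.map (CommRingCat.ofHom (d2Hom h)) ≫ (LieS.dpt (DualNumber B) (LieS.dpt B f).hom).hom =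
    (LieS.dpt (DualNumber C) (LieS.dpt C (Spec.map (CommRingCat.ofHom h) ≫ f)).hom).hom
  rw [dpt_hom, dpt_hom, dpt_hom, dpt_hom]
  erw [← Category.assoc]
  rw [LieS.specMap_comp]
  erw [← Category.assoc]
  rw [LieS.specMap_comp]
  erw [← Category.assoc, ← Category.assoc]
  rw [LieS.specMap_comp, LieS.specMap_comp]
  congr 3
  refine RingHom.ext fun x => D2_ext C ?_ ?_ ?_ ?_ <;>
    simp [LieS.bcHom, LieS.toD2, TrivSqZeroExt.algebraMap_eq_inl']

/-- The base change of iterated dual numbers. -/
def d2Map : LieS.d2pt C (Spec.map (CommRingCat.ofHom h) ≫ f) ⟶ LieS.d2pt B f :=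
  Over.homMk (U := LieS.d2pt C (Spec.map (CommRingCat.ofHom h) ≫ f)) (V := LieS.d2pt B f)
    (Spec.map (CommRingCat.ofHom (d2Hom h))) (d2Map_w h)

theorem d2Map_renameMap : d2Map h ≫ (renameMap f) =
    (renameMap (Spec.map (CommRingCat.ofHom h) ≫ f)) ≫ LieS.dptMap f h := by
  refine Over.OverMorphism.ext ?_
  change Spec.map _ ≫ Spec.map _ = Spec.map _ ≫ Spec.map _
  rw [LieS.specMap_comp, LieS.specMap_comp]
  congr 2
  refine RingHom.ext fun x => D2_ext C ?_ ?_ ?_ ?_ <;>
    simp [LieS.bcHom, TrivSqZeroExt.algebraMap_eq_inl']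

theorem d2Map_proj' : d2Map h ≫ (proj' f) =
    (proj' (Spec.map (CommRingCat.ofHom h) ≫ f)) ≫ LieS.dptMap f h := by
  refine Over.OverMorphism.ext ?_
  change Spec.map _ ≫ Spec.map _ = Spec.map _ ≫ Spec.map _
  rw [LieS.specMap_comp, LieS.specMap_comp]
  congr 2
  refine RingHom.ext fun x => D2_ext C ?_ ?_ ?_ ?_ <;>
    simp [LieS.bcHom, TrivSqZeroExt.algebraMap_eq_inl']

theorem d2Map_mulMap : d2Map h ≫ LieS.mulMap B f =
    LieS.mulMap C (Spec.map (CommRingCat.ofHom h) ≫ f) ≫ LieS.dptMap f h := by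
  refine Over.OverMorphism.ext ?_
  change Spec.map _ ≫ Spec.map _ = Spec.map _ ≫ Spec.map _
  rw [LieS.specMap_comp, LieS.specMap_comp]
  congr 2
  refine RingHom.ext fun x => D2_ext C ?_ ?_ ?_ ?_ <;>
    simp [LieS.bcHom, LieS.mulHom, LieS.toD2, TrivSqZeroExt.algebraMap_eq_inl']

theorem bra_pull (x y : LieS.Lie G B f) :
    LieS.pull G f h (bra x y) = bra (LieS.pull G f h x) (LieS.pull G f h y) := by
  refine eq_bra ?_
  show LieS.mulMap C _ ≫ LieS.dptMap f h ≫ (bra x y).1 =
    (renameMap (Spec.map (CommRingCat.ofHom h) ≫ f) ≫ LieS.dptMap f h ≫ x.1) * (proj' (Spec.map (CommRingCat.ofHom h) ≫ f) ≫ LieS.dptMap f h ≫ y.1) *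
      (renameMap (Spec.map (CommRingCat.ofHom h) ≫ f) ≫ LieS.dptMap f h ≫ x.1)⁻¹ * (proj' (Spec.map (CommRingCat.ofHom h) ≫ f) ≫ LieS.dptMap f h ≫ y.1)⁻¹
  simp only [← Category.assoc, ← d2Map_mulMap, ← d2Map_renameMap, ← d2Map_proj']
  simp only [Category.assoc]
  rw [isBracket_bra x y]
  simp only [MonObj.comp_mul, GrpObj.comp_inv]

end BaseChange

theorem br_P (x y : LL G B f) : P (br x y) = br (P x) (P y) :=
  congrArg Additive.ofMul (bra_pull (algebraMap B (DualNumber B)) (Additive.toMul x) (Additive.toMul y))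

theorem renameMap_proj : (renameMap f) ≫ LieS.proj B f = (proj' f) ≫ LieS.proj B f := by
  refine Over.OverMorphism.ext ?_
  change Spec.map _ ≫ Spec.map _ = Spec.map _ ≫ Spec.map _
  rw [LieS.specMap_comp, LieS.specMap_comp]
  congr 2
  refine RingHom.ext fun x => D2_ext B ?_ ?_ ?_ ?_ <;>
    simp [LieS.bcHom, TrivSqZeroExt.algebraMap_eq_inl']

theorem mulMap_proj : LieS.mulMap B f ≫ LieS.proj B f = (proj' f) ≫ LieS.proj B f := by
  refine Over.OverMorphism.ext ?_
  change Spec.map _ ≫ Spec.map _ = Spec.map _ ≫ Spec.map _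
  rw [LieS.specMap_comp, LieS.specMap_comp]
  congr 2
  refine RingHom.ext fun x => D2_ext B ?_ ?_ ?_ ?_ <;>
    simp [LieS.mulHom, LieS.toD2, TrivSqZeroExt.algebraMap_eq_inl']

theorem br_adL (g : LieS.pt B f ⟶ G) (x y : LL G B f) : adL g (br x y) = br (adL g x) (adL g y) := by
  refine congrArg Additive.ofMul (eq_bra ?_)
  show LieS.mulMap B f ≫ ((LieS.proj B f ≫ g) * (bra (Additive.toMul x) (Additive.toMul y)).1 *
      (LieS.proj B f ≫ g)⁻¹) =
    ((renameMap f) ≫ ((LieS.proj B f ≫ g) * (Additive.toMul x).1 * (LieS.proj B f ≫ g)⁻¹)) *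
      ((proj' f) ≫ ((LieS.proj B f ≫ g) * (Additive.toMul y).1 * (LieS.proj B f ≫ g)⁻¹)) *
      ((renameMap f) ≫ ((LieS.proj B f ≫ g) * (Additive.toMul x).1 * (LieS.proj B f ≫ g)⁻¹))⁻¹ *
      ((proj' f) ≫ ((LieS.proj B f ≫ g) * (Additive.toMul y).1 * (LieS.proj B f ≫ g)⁻¹))⁻¹
  simp only [MonObj.comp_mul, GrpObj.comp_inv]
  rw [← Category.assoc (LieS.mulMap B f) (LieS.proj B f), ← Category.assoc ((renameMap f)) (LieS.proj B f),
    ← Category.assoc ((proj' f)) (LieS.proj B f), mulMap_proj, renameMap_proj,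
    isBracket_bra (Additive.toMul x) (Additive.toMul y)]
  group

theorem br_br (x y z : LL G B f) : br (br x z) y = br x (br z y) + br (br x y) z := by
  refine eps_P_injective ?_
  have h := br_adL (asPt (Additive.toMul y)) (P x) (P z)
  rw [← br_P, adL_P, adL_P, adL_P] at h
  simp only [br_sub_left, br_sub_right, br_smul_left, br_smul_right, ← br_P, smul_smul,
    LieS.eps_sq, zero_smul, sub_zero, smul_sub] at h
  simp only [map_add, smul_add]
  rw [← sub_eq_zero] at h ⊢
  rw [← neg_eq_zero, ← h]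
  abel

/-- The tangent space as a Lie ring. -/
abbrev lieRing : LieRing (LL G B f) where
  bracket := br
  add_lie x y z := br_add_left x y z
  lie_add x y z := br_add_right x y z
  lie_self := br_self
  leibniz_lie x y z := by
    show br x (br y z) = br (br x y) z + br y (br x z)
    rw [br_br x z y, br_swap (br x z) y]
    abel

end

end Groth.Agent.LieSBracket
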