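import Groth.Agent.LieSBracket.Square

/-!
# Commutativity and scalar action on tangent points
-/

set_option autoImplicit false
universe u

open CategoryTheory MonoidalCategory CartesianMonoidalCategory AlgebraicGeometry
open scoped MonObj
open Groth.Agent.S8365 (twoPt twoPt_ext inMap outMap selfMap out_in selfMap_id selfMap_zero)
open Groth.Agent.LieSLib (selfMap_zero_comp)

namespace Groth.Agent.LieSBracket

noncomputable section

theorem dual_ext {B R : Type u} [CommRing B] [CommRing R] (a b : DualNumber B →+* R)
    (h₁ : ∀ x, a (algebraMap B (DualNumber B) x) = b (algebraMap B (DualNumber B) x))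
    (h₂ : a DualNumber.eps = b DualNumber.eps) : a = b := by
  refine RingHom.ext fun z => ?_
  have hz : z = algebraMap B (DualNumber B) z.fst + algebraMap B (DualNumber B) z.snd * DualNumber.eps :=
    TrivSqZeroExt.ext (by simp [TrivSqZeroExt.algebraMap_eq_inl'])
      (by simp [TrivSqZeroExt.algebraMap_eq_inl'])
  rw [hz, map_add, map_add, map_mul, map_mul, h₁, h₁, h₂]

variable {S : Scheme.{u}} {G : Over S} [GrpObj G] {B : Type u} [CommRing B]
    {f : Spec (CommRingCat.of B) ⟶ S}

/-- The tangent group at the unit is commutative. -/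
theorem lie_mul_comm (v w : LieS.Lie G B f) : v * w = w * v := by
  let a := inMap f (LinearMap.inl B B B) ≫ v.1
  let b := inMap f (LinearMap.inr B B B) ≫ w.1
  have a1 : outMap f (LinearMap.fst B B B) ≫ a = v.1 := by
    simp only [a]
    rw [← Category.assoc, out_in, LinearMap.fst_comp_inl, selfMap_id, Category.id_comp]
  have a2 : outMap f (LinearMap.snd B B B) ≫ a = 1 := by
    simp only [a]
    rw [← Category.assoc, out_in, LinearMap.snd_comp_inl, selfMap_zero_comp]
  have b1 : outMap f (LinearMap.fst B B B) ≫ b = 1 := by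
    simp only [b]
    rw [← Category.assoc, out_in, LinearMap.fst_comp_inr, selfMap_zero_comp]
  have b2 : outMap f (LinearMap.snd B B B) ≫ b = w.1 := by
    simp only [b]
    rw [← Category.assoc, out_in, LinearMap.snd_comp_inr, selfMap_id, Category.id_comp]
  have hab : a * b = b * a := twoPt_ext f _ _
    (by rw [MonObj.comp_mul, MonObj.comp_mul, a1, b1, _root_.mul_one, _root_.one_mul])
    (by rw [MonObj.comp_mul, MonObj.comp_mul, a2, b2, _root_.mul_one, _root_.one_mul])
  let d : B × B →ₗ[B] B := LinearMap.coprod LinearMap.id LinearMap.id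
  have hda : outMap f d ≫ a = v.1 := by
    simp only [a]
    rw [← Category.assoc, out_in, LinearMap.coprod_inl, selfMap_id, Category.id_comp]
  have hdb : outMap f d ≫ b = w.1 := by
    simp only [b]
    rw [← Category.assoc, out_in, LinearMap.coprod_inr, selfMap_id, Category.id_comp]
  have h := congrArg (fun z => outMap f d ≫ z) hab
  simp only [MonObj.comp_mul, hda, hdb] at h
  exact Subtype.ext h

/-- The commutative group structure of the tangent group. -/
instance lieCommGroup : CommGroup (LieS.Lie G B f) :=
  { (inferInstance : Group (LieS.Lie G B f)) with mul_comm := lie_mul_comm }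

theorem smul_mul (b : B) (v w : LieS.Lie G B f) :
    (b • (v * w) : LieS.Lie G B f) = (b • v : LieS.Lie G B f) * (b • w : LieS.Lie G B f) :=
  Subtype.ext (MonObj.comp_mul _ _ _)

theorem smul_one' (b : B) : (b • (1 : LieS.Lie G B f) : LieS.Lie G B f) = 1 :=
  Subtype.ext (MonObj.comp_one _)

theorem scale_scale (a b : B) : LieS.scale B f a ≫ LieS.scale B f b = LieS.scale B f (a * b) := by
  refine Over.OverMorphism.ext ?_
  change Spec.map _ ≫ Spec.map _ = Spec.map _
  rw [LieS.specMap_comp]
  congr 2
  refine dual_ext _ _ (fun x => ?_) ?_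
  · simp [LieS.scaleHom, TrivSqZeroExt.algebraMap_eq_inl']
  · refine TrivSqZeroExt.ext ?_ ?_ <;>
      simp [LieS.scaleHom, TrivSqZeroExt.algebraMap_eq_inl', mul_comm]

theorem mul_smul' (a b : B) (v : LieS.Lie G B f) :
    ((a * b) • v : LieS.Lie G B f) = (a • (b • v : LieS.Lie G B f) : LieS.Lie G B f) :=
  Subtype.ext (by
    show LieS.scale B f (a * b) ≫ v.1 = LieS.scale B f a ≫ LieS.scale B f b ≫ v.1
    rw [← scale_scale, Category.assoc])

variable (G B f) in
/-- The tangent space at the unit, written additively. -/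
abbrev LL : Type u := Additive (LieS.Lie G B f)

/-- The scalar action, additively. -/
instance llSMul : SMul B (LL G B f) := ⟨fun b v => Additive.ofMul (b • Additive.toMul v)⟩

/-- The module structure on the tangent space. -/
instance llModule : Module B (LL G B f) where
  one_smul v := congrArg Additive.ofMul (LieSLib.one_smul (Additive.toMul v))
  mul_smul a b v := congrArg Additive.ofMul (mul_smul' a b (Additive.toMul v))
  smul_zero b := congrArg Additive.ofMul (smul_one' b)
  smul_add b v w := congrArg Additive.ofMul (smul_mul b (Additive.toMul v) (Additive.toMul w))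
  add_smul a b v := congrArg Additive.ofMul (LieSLib.add_smul a b (Additive.toMul v))
  zero_smul v := congrArg Additive.ofMul (LieSLib.zero_smul (Additive.toMul v))

/-- Pullback commutes with the scalar actions. -/
theorem pull_smul {C : Type u} [CommRing C] (h : B →+* C) (b : B) (v : LieS.Lie G B f) :
    LieS.pull G f h (b • v) = (h b • LieS.pull G f h v : LieS.Lie G C _) := by
  refine Subtype.ext ?_
  show LieS.dptMap f h ≫ LieS.scale B f b ≫ v.1 = LieS.scale C _ (h b) ≫ LieS.dptMap f h ≫ v.1
  rw [← Category.assoc, ← Category.assoc]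
  congr 1
  refine Over.OverMorphism.ext ?_
  change Spec.map _ ≫ Spec.map _ = Spec.map _ ≫ Spec.map _
  rw [LieS.specMap_comp, LieS.specMap_comp]
  congr 2
  refine dual_ext _ _ (fun x => ?_) ?_
  · simp [LieS.scaleHom, LieS.bcHom, TrivSqZeroExt.algebraMap_eq_inl']
  · refine TrivSqZeroExt.ext ?_ ?_ <;>
      simp [LieS.scaleHom, LieS.bcHom, TrivSqZeroExt.algebraMap_eq_inl']

/-- The adjoint action is linear. -/
theorem Ad_smul (g : LieS.pt B f ⟶ G) (b : B) (v : LieS.Lie G B f) :
    LieS.Ad G B f g (b • v) = (b • LieS.Ad G B f g v : LieS.Lie G B f) := by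
  refine Subtype.ext ?_
  show (LieS.proj B f ≫ g) * (LieS.scale B f b ≫ v.1) * (LieS.proj B f ≫ g)⁻¹ =
    LieS.scale B f b ≫ ((LieS.proj B f ≫ g) * v.1 * (LieS.proj B f ≫ g)⁻¹)
  rw [MonObj.comp_mul, MonObj.comp_mul, GrpObj.comp_inv, ← Category.assoc]
  have h : LieS.scale B f b ≫ LieS.proj B f = LieS.proj B f := by
    refine Over.OverMorphism.ext ?_
    change Spec.map _ ≫ Spec.map _ = Spec.map _
    rw [LieS.specMap_comp, LieS.scaleHom_comp_algebraMap]
  rw [h]

end

end Groth.Agent.LieSBracket
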