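import Groth.Agent.LieSLib.Basic
import Groth.Agent.FlatMisc.SpecPushout

/-!
# Points of a scheme on iterated dual numbers: descent along fibre squares of rings
-/

set_option autoImplicit false
universe u

open CategoryTheory CategoryTheory.Limits MonoidalCategory CartesianMonoidalCategory AlgebraicGeometry
open scoped MonObj
open TrivSqZeroExt (map)
open Groth.Agent.S8365 (twoPt twoPt_ext inMap outMap selfMap out_in selfMap_id selfMap_zero)

namespace Groth.Agent.LieSBracket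

noncomputable section

/-- Morphisms glue along a fibre square of rings with a surjective leg. -/
theorem exists_glue {B' B A' A : Type u} [CommRing B'] [CommRing B] [CommRing A'] [CommRing A]
    (p : B' →+* B) (q : B' →+* A') (r : B →+* A) (s : A' →+* A) (hc : r.comp p = s.comp q)
    (hs : Function.Surjective s)
    (h : ∀ (b : B) (a' : A'), r b = s a' → ∃! b' : B', p b' = b ∧ q b' = a')
    {Y : Scheme.{u}} (g₁ : Spec (CommRingCat.of B) ⟶ Y) (g₂ : Spec (CommRingCat.of A') ⟶ Y)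
    (hg : Spec.map (CommRingCat.ofHom r) ≫ g₁ = Spec.map (CommRingCat.ofHom s) ≫ g₂) :
    ∃! z : Spec (CommRingCat.of B') ⟶ Y,
      Spec.map (CommRingCat.ofHom p) ≫ z = g₁ ∧ Spec.map (CommRingCat.ofHom q) ≫ z = g₂ := by
  letI : Algebra B' B := p.toAlgebra
  letI : Algebra B' A' := q.toAlgebra
  letI : Algebra B A := r.toAlgebra
  letI : Algebra A' A := s.toAlgebra
  letI : Algebra B' A := (r.comp p).toAlgebra
  haveI : IsScalarTower B' B A := IsScalarTower.of_algebraMap_eq fun _ => rfl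
  haveI : IsScalarTower B' A' A := IsScalarTower.of_algebraMap_eq fun x => RingHom.congr_fun hc x
  have sq : IsPushout (Spec.map (CommRingCat.ofHom r)) (Spec.map (CommRingCat.ofHom s))
      (Spec.map (CommRingCat.ofHom p)) (Spec.map (CommRingCat.ofHom q)) :=
    FlatMisc.SpecPushout.isPushout (B' := B') (B := B) (A' := A') (A := A) (⟨hs, h⟩ : EtMil.IsFibreSquare B' B A' A)
  refine ⟨sq.desc g₁ g₂ hg, ⟨sq.inl_desc _ _ _, sq.inr_desc _ _ _⟩, fun z hz => ?_⟩
  exact sq.hom_ext (hz.1.trans (sq.inl_desc _ _ _).symm) (hz.2.trans (sq.inr_desc _ _ _).symm)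

variable (B : Type u) [CommRing B]

/-- `B[ε][ε'] → B ⊕ B²`, killing `εε'`. -/
def twoHom : LieS.D2 B →+* TrivSqZeroExt B (B × B) :=
  LieS.dualHom (map (LinearMap.inl B B B)).toRingHom (TrivSqZeroExt.inr (0, 1))
    (TrivSqZeroExt.inr_mul_inr B _ _)

@[simp] theorem twoHom_fst (x : LieS.D2 B) : (twoHom B x).fst = x.fst.fst := by
  simp [twoHom]

@[simp] theorem twoHom_snd (x : LieS.D2 B) : (twoHom B x).snd = (x.fst.snd, x.snd.fst) := by
  simp [twoHom]

theorem twoHom_surjective : Function.Surjective (twoHom B) := fun a =>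
  ⟨TrivSqZeroExt.inl (TrivSqZeroExt.inl a.fst + TrivSqZeroExt.inr a.snd.1) +
      TrivSqZeroExt.inr (TrivSqZeroExt.inl a.snd.2),
    TrivSqZeroExt.ext (by simp) (Prod.ext (by simp) (by simp))⟩

/-- The exchange of the two infinitesimal coordinates. -/
def swapHom : LieS.D2 B →+* LieS.D2 B :=
  LieS.dualHom (LieS.bcHom (algebraMap B (DualNumber B)))
    (algebraMap (DualNumber B) (LieS.D2 B) DualNumber.eps)
    (by rw [← map_mul, LieS.eps_sq, map_zero])

@[simp] theorem swapHom_ff (x : LieS.D2 B) : (swapHom B x).fst.fst = x.fst.fst := by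
  simp [swapHom, LieS.bcHom, TrivSqZeroExt.algebraMap_eq_inl']

@[simp] theorem swapHom_fs (x : LieS.D2 B) : (swapHom B x).fst.snd = x.snd.fst := by
  simp [swapHom, LieS.bcHom, TrivSqZeroExt.algebraMap_eq_inl']

@[simp] theorem swapHom_sf (x : LieS.D2 B) : (swapHom B x).snd.fst = x.fst.snd := by
  simp [swapHom, LieS.bcHom, TrivSqZeroExt.algebraMap_eq_inl']

@[simp] theorem swapHom_ss (x : LieS.D2 B) : (swapHom B x).snd.snd = x.snd.snd := by
  simp [swapHom, LieS.bcHom, TrivSqZeroExt.algebraMap_eq_inl']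

theorem D2_ext {x y : LieS.D2 B} (h₁ : x.fst.fst = y.fst.fst) (h₂ : x.fst.snd = y.fst.snd)
    (h₃ : x.snd.fst = y.snd.fst) (h₄ : x.snd.snd = y.snd.snd) : x = y :=
  TrivSqZeroExt.ext (TrivSqZeroExt.ext h₁ h₂) (TrivSqZeroExt.ext h₃ h₄)

variable {B} {S : Scheme.{u}} (f : Spec (CommRingCat.of B) ⟶ S)

theorem dpt_hom {C : Type u} [CommRing C] (g : Spec (CommRingCat.of C) ⟶ S) :
    (LieS.dpt C g).hom = Spec.map (CommRingCat.ofHom (algebraMap C (DualNumber C))) ≫ g := rfl

theorem d2pt_hom {R : Type u} [CommRing R] (t : LieS.D2 B →+* R) (d : B →+* R)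
    (h : (t.comp (algebraMap (DualNumber B) (LieS.D2 B))).comp (algebraMap B (DualNumber B)) = d) :
    (Spec.map (CommRingCat.ofHom t) ≫ (LieS.d2pt B f).hom : Spec (CommRingCat.of R) ⟶ S) =
      Spec.map (CommRingCat.ofHom d) ≫ f := by
  show Spec.map (CommRingCat.ofHom t) ≫ (LieS.dpt (DualNumber B) (LieS.dpt B f).hom).hom = _
  rw [dpt_hom, dpt_hom]
  erw [← Category.assoc]
  rw [LieS.specMap_comp]
  erw [← Category.assoc]
  rw [LieS.specMap_comp, h]

theorem d2pt_hom' : (LieS.d2pt B f).hom = Spec.map (CommRingCat.ofHom (LieS.toD2 B)) ≫ f := by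
  show (LieS.dpt (DualNumber B) (LieS.dpt B f).hom).hom = _
  rw [dpt_hom, dpt_hom]
  erw [← Category.assoc]
  rw [LieS.specMap_comp]

theorem twoHom_comp : ((twoHom B).comp (algebraMap (DualNumber B) (LieS.D2 B))).comp
    (algebraMap B (DualNumber B)) = algebraMap B (TrivSqZeroExt B (B × B)) :=
  RingHom.ext fun b => TrivSqZeroExt.ext (by simp [TrivSqZeroExt.algebraMap_eq_inl'])
    (Prod.ext (by simp [TrivSqZeroExt.algebraMap_eq_inl']) (by simp [TrivSqZeroExt.algebraMap_eq_inl']))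

theorem swapHom_comp : ((swapHom B).comp (algebraMap (DualNumber B) (LieS.D2 B))).comp
    (algebraMap B (DualNumber B)) = LieS.toD2 B :=
  RingHom.ext fun b => D2_ext B (by simp [LieS.toD2, TrivSqZeroExt.algebraMap_eq_inl'])
    (by simp [LieS.toD2, TrivSqZeroExt.algebraMap_eq_inl'])
    (by simp [LieS.toD2, TrivSqZeroExt.algebraMap_eq_inl'])
    (by simp [LieS.toD2, TrivSqZeroExt.algebraMap_eq_inl'])

/-- The two axes inside the square. -/
def sqMap : twoPt B f ⟶ LieS.d2pt B f :=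
  Over.homMk (U := twoPt B f) (V := LieS.d2pt B f) (Spec.map (CommRingCat.ofHom (twoHom B)))
    (d2pt_hom f (twoHom B) _ twoHom_comp)

theorem swap_w : Spec.map (CommRingCat.ofHom (swapHom B)) ≫ (LieS.d2pt B f).hom = (LieS.d2pt B f).hom := by
  show Spec.map (CommRingCat.ofHom (swapHom B)) ≫ (LieS.dpt (DualNumber B) (LieS.dpt B f).hom).hom = (LieS.dpt (DualNumber B) (LieS.dpt B f).hom).hom
  rw [dpt_hom, dpt_hom]
  erw [← Category.assoc]
  rw [LieS.specMap_comp]
  erw [← Category.assoc]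
  rw [LieS.specMap_comp, swapHom_comp]
  erw [← Category.assoc]
  rw [LieS.specMap_comp]

/-- The exchange of coordinates on `I ×_T I'`. -/
def swapMap : LieS.d2pt B f ⟶ LieS.d2pt B f :=
  Over.homMk (U := LieS.d2pt B f) (V := LieS.d2pt B f) (Spec.map (CommRingCat.ofHom (swapHom B))) (swap_w f)

theorem out_fst_sq : outMap f (LinearMap.fst B B B) ≫ sqMap f =
    LieS.zeroSec (DualNumber B) (LieS.dpt B f).hom := by
  refine Over.OverMorphism.ext ?_
  change Spec.map _ ≫ Spec.map _ = Spec.map _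
  rw [LieS.specMap_comp]
  congr 2
  refine RingHom.ext fun x => TrivSqZeroExt.ext ?_ ?_ <;> simp

/-- The second axis. -/
theorem out_snd_sq_dptMap : outMap f (LinearMap.snd B B B) ≫ sqMap f ≫
    LieS.dptMap f (algebraMap B (DualNumber B)) = 𝟙 (LieS.dpt B f) := by
  refine Over.OverMorphism.ext ?_
  change Spec.map _ ≫ Spec.map _ ≫ Spec.map _ = 𝟙 _
  rw [LieS.specMap_comp, LieS.specMap_comp]
  refine Eq.trans ?_ (Spec.map_id _)
  congr 1
  refine CommRingCat.hom_ext (RingHom.ext fun x => TrivSqZeroExt.ext ?_ ?_) <;>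
    simp [LieS.bcHom, TrivSqZeroExt.algebraMap_eq_inl']

theorem out_snd_sq_proj : outMap f (LinearMap.snd B B B) ≫ sqMap f ≫
    LieS.proj (DualNumber B) (LieS.dpt B f).hom = LieS.proj B f ≫ LieS.zeroSec B f := by
  refine Over.OverMorphism.ext ?_
  change Spec.map _ ≫ Spec.map _ ≫ Spec.map _ = Spec.map _ ≫ Spec.map _
  rw [LieS.specMap_comp, LieS.specMap_comp, LieS.specMap_comp]
  congr 2
  refine RingHom.ext fun x => TrivSqZeroExt.ext ?_ ?_ <;>
    simp [TrivSqZeroExt.algebraMap_eq_inl']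

theorem zeroSec_mulMap_comp : LieS.zeroSec (DualNumber B) (LieS.dpt B f).hom ≫ LieS.mulMap B f =
    LieS.proj B f ≫ LieS.zeroSec B f := by
  refine Over.OverMorphism.ext ?_
  change Spec.map _ ≫ Spec.map _ = Spec.map _ ≫ Spec.map _
  rw [LieS.specMap_comp, LieS.specMap_comp]
  congr 2
  refine RingHom.ext fun x => TrivSqZeroExt.ext ?_ ?_ <;>
    simp [LieS.mulHom, LieS.toD2, TrivSqZeroExt.algebraMap_eq_inl']

variable {G : Over S} [GrpObj G]

omit [GrpObj G] in
theorem mul_square : (algebraMap B (TrivSqZeroExt B (B × B))).comp (TrivSqZeroExt.fstHom B B B).toRingHom =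
    (twoHom B).comp (LieS.mulHom B) := by
  refine RingHom.ext fun x => TrivSqZeroExt.ext ?_ (Prod.ext ?_ ?_) <;>
    simp [LieS.mulHom, LieS.toD2, TrivSqZeroExt.algebraMap_eq_inl']

omit [GrpObj G] in
theorem mul_square_unique (b : B) (a' : LieS.D2 B)
    (hba : algebraMap B (TrivSqZeroExt B (B × B)) b = twoHom B a') :
    ∃! b' : DualNumber B, (TrivSqZeroExt.fstHom B B B).toRingHom b' = b ∧ LieS.mulHom B b' = a' := by
  have h1 := congrArg TrivSqZeroExt.fst hba
  have h2 := congrArg TrivSqZeroExt.snd hba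
  simp [TrivSqZeroExt.algebraMap_eq_inl', Prod.ext_iff] at h1 h2
  refine ⟨TrivSqZeroExt.inl b + TrivSqZeroExt.inr a'.snd.snd, ⟨by simp, D2_ext B ?_ ?_ ?_ ?_⟩, ?_⟩
  · simp [LieS.mulHom, LieS.toD2, TrivSqZeroExt.algebraMap_eq_inl', h1]
  · rw [← h2.1]; simp [LieS.mulHom, LieS.toD2, TrivSqZeroExt.algebraMap_eq_inl']
  · rw [← h2.2]; simp [LieS.mulHom, LieS.toD2, TrivSqZeroExt.algebraMap_eq_inl']
  · simp [LieS.mulHom, LieS.toD2, TrivSqZeroExt.algebraMap_eq_inl']
  · rintro y ⟨hy1, hy2⟩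
    refine TrivSqZeroExt.ext (by simpa using hy1) ?_
    have := congrArg (fun t : LieS.D2 B => t.snd.snd) hy2
    simpa [LieS.mulHom, LieS.toD2, TrivSqZeroExt.algebraMap_eq_inl'] using this

/-- The projection of the axes to `T`. -/
def twoProj : twoPt B f ⟶ LieS.pt B f :=
  Over.homMk (U := twoPt B f) (V := LieS.pt B f)
    (Spec.map (CommRingCat.ofHom (algebraMap B (TrivSqZeroExt B (B × B))))) rfl

theorem cond_of_trivial (w : LieS.d2pt B f ⟶ G) (hw : sqMap f ≫ w = 1) :
    Spec.map (CommRingCat.ofHom (algebraMap B (TrivSqZeroExt B (B × B)))) ≫ (1 : LieS.pt B f ⟶ G).left =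
      Spec.map (CommRingCat.ofHom (twoHom B)) ≫ w.left := by
  have e : twoProj f ≫ (1 : LieS.pt B f ⟶ G) = sqMap f ≫ w := (MonObj.comp_one _).trans hw.symm
  exact congrArg CommaMorphism.left e

/-- A point of `I ×_T I'` that is trivial on both axes comes from a tangent vector along `ε ↦ εε'`. -/
theorem exists_mulMap_comp (w : LieS.d2pt B f ⟶ G) (hw : sqMap f ≫ w = 1) :
    ∃ z : LieS.Lie G B f, LieS.mulMap B f ≫ z.1 = w := by
  let g₁ : Spec (CommRingCat.of B) ⟶ G.left := (1 : LieS.pt B f ⟶ G).left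
  let g₂ : Spec (CommRingCat.of (LieS.D2 B)) ⟶ G.left := w.left
  have hcond : Spec.map (CommRingCat.ofHom (algebraMap B (TrivSqZeroExt B (B × B)))) ≫ g₁ =
      Spec.map (CommRingCat.ofHom (twoHom B)) ≫ g₂ := cond_of_trivial f w hw
  let p₁ : DualNumber B →+* B := (TrivSqZeroExt.fstHom B B B).toRingHom
  let q₁ : DualNumber B →+* LieS.D2 B := LieS.mulHom B
  let r₁ : B →+* TrivSqZeroExt B (B × B) := algebraMap B (TrivSqZeroExt B (B × B))
  let s₁ : LieS.D2 B →+* TrivSqZeroExt B (B × B) := twoHom B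
  have G1 := exists_glue (B' := DualNumber B) (B := B) (A' := LieS.D2 B) (A := TrivSqZeroExt B (B × B))
    p₁ q₁ r₁ s₁
  have G2 := G1 mul_square (twoHom_surjective B)
  have G3 := G2 mul_square_unique (Y := G.left)
  have G4 := G3 g₁ g₂ hcond
  obtain ⟨z, hz, -⟩ := G4
  have hz1 := hz.1
  have hz2 := hz.2
  let f₂ : Spec (CommRingCat.of (LieS.D2 B)) ⟶ S := (LieS.d2pt B f).hom
  have h1 : Spec.map (CommRingCat.ofHom r₁) ≫ f = Spec.map (CommRingCat.ofHom s₁) ≫ f₂ :=
    (d2pt_hom f (twoHom B) _ twoHom_comp).symm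
  have hu := G2 mul_square_unique (Y := S) f f₂ h1
  have hzw : z ≫ G.hom = (LieS.dpt B f).hom :=
    hu.unique
      ⟨((Category.assoc _ _ _).symm.trans (congrArg (fun t => t ≫ G.hom) hz1)).trans
          (Over.w (1 : LieS.pt B f ⟶ G)),
        ((Category.assoc _ _ _).symm.trans (congrArg (fun t => t ≫ G.hom) hz2)).trans (Over.w w)⟩
      ⟨Over.w (LieS.zeroSec B f), Over.w (LieS.mulMap B f)⟩
  exact ⟨⟨Over.homMk z hzw, Over.OverMorphism.ext hz1⟩, Over.OverMorphism.ext hz2⟩

set_option maxHeartbeats 1000000 in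
/-- Points on `I ×_T I'` that look symmetrical on the two axes are invariant under the exchange. -/
theorem swap_comp_eq (c : LieS.d2pt B f ⟶ G) (v : LieS.dpt B f ⟶ G)
    (hc : sqMap f ≫ c = inMap f (LinearMap.inl B B B + LinearMap.inr B B B) ≫ v) :
    swapMap f ≫ c = c := by
  let K : Subring (LieS.D2 B) := RingHom.eqLocus (swapHom B) (RingHom.id _)
  let p : K →+* DualNumber B := (TrivSqZeroExt.fstHom (DualNumber B) (DualNumber B) (DualNumber B)).toRingHom.comp K.subtype
  let r : DualNumber B →+* TrivSqZeroExt B (B × B) := (map (LinearMap.inl B B B + LinearMap.inr B B B)).toRingHom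
  have hK : ∀ x : K, x.1.fst.snd = x.1.snd.fst := fun x => by
    have := congrArg (fun t : LieS.D2 B => t.fst.snd) x.2
    simpa using this.symm
  have hcm : r.comp p = (twoHom B).comp K.subtype := by
    refine RingHom.ext fun x => TrivSqZeroExt.ext ?_ (Prod.ext ?_ ?_) <;> simp [r, p, hK x]
  have hfib : ∀ (b : DualNumber B) (a' : LieS.D2 B), r b = twoHom B a' →
      ∃! b' : K, p b' = b ∧ K.subtype b' = a' := by
    intro b a' hba
    have h1 := congrArg TrivSqZeroExt.fst hba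
    have h2 := congrArg TrivSqZeroExt.snd hba
    simp [r, Prod.ext_iff] at h1 h2
    have hmem : a' ∈ K := D2_ext B (by simp) (by simp [← h2.1, ← h2.2]) (by simp [← h2.1, ← h2.2]) (by simp)
    refine ⟨⟨a', hmem⟩, ⟨TrivSqZeroExt.ext ?_ ?_, rfl⟩, fun y hy => Subtype.ext hy.2⟩
    · simp [p, h1]
    · simp [p, ← h2.1]
  let s₁ : LieS.D2 B →+* TrivSqZeroExt B (B × B) := twoHom B
  let q₁ : K →+* LieS.D2 B := K.subtype
  have G1 := exists_glue (B' := K) (B := DualNumber B) (A' := LieS.D2 B) (A := TrivSqZeroExt B (B × B))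
    p q₁ r s₁
  have G2 := G1 hcm (twoHom_surjective B)
  have G3 := G2 hfib (Y := G.left)
  let g₁ : Spec (CommRingCat.of (DualNumber B)) ⟶ G.left := v.left
  let g₂ : Spec (CommRingCat.of (LieS.D2 B)) ⟶ G.left := c.left
  have hcond : Spec.map (CommRingCat.ofHom r) ≫ g₁ = Spec.map (CommRingCat.ofHom s₁) ≫ g₂ :=
    (congrArg CommaMorphism.left hc).symm
  have G4 := G3 g₁ g₂ hcond
  obtain ⟨z, hz', -⟩ := G4
  have hz := hz'.2
  refine Over.OverMorphism.ext ?_
  show Spec.map (CommRingCat.ofHom (swapHom B)) ≫ g₂ = g₂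
  have e : (swapHom B).comp q₁ = q₁ := RingHom.ext fun x => x.2
  rw [← hz, ← Category.assoc, LieS.specMap_comp, e]

end

end Groth.Agent.LieSBracket
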